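import Groth.Agent.AgPol.K652.QPNodes
import Groth.Agent.Ega1.ReducedSub
import Groth.Agent.Desc.K390.PnSec
import Groth.Agent.Ega2.FiniteSet

/-!
# Closed subschemes of `P^m` with the same points on which forms of degree `D` are detected

Two reduced closed subschemes `X`, `X'` of `P^m_Ω` which are cut out by forms of degree `D` and on which the
forms of degree `D` are determined by their values at the same family of points of `P^m_Ω` coincide.
-/

set_option autoImplicit false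
universe u

open CategoryTheory Limits AlgebraicGeometry

namespace K185.Fib

open Groth.Agent.Grpsch.PicGrp Groth.Agent.Fdesc.LocGen K652.QPNodes

/-- Vanishing of the pull-back of a section along a composition. -/
theorem pullTop_comp_eq_zero {X Y Z : Scheme.{u}} (f : X ⟶ Y) (g : Y ⟶ Z) {M : Z.Modules}
    (s : Γ(M, ⊤)) : pullTop (f ≫ g) s = 0 ↔ pullTop f (pullTop g s) = 0 := by
  have h1 : ((Scheme.Modules.pullbackComp f g).hom.app M).app ⊤ (pullTop f (pullTop g s)) =
      pullTop (f ≫ g) s := pullSec_comp' f g s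
  have h2 : ((Scheme.Modules.pullbackComp f g).inv.app M).app ⊤ (pullTop (f ≫ g) s) =
      pullTop f (pullTop g s) := pullSec_comp f g s
  constructor
  · intro h
    rw [← h2, h, map_zero]
  · intro h
    rw [← h1, h, map_zero]

/-- A section of an invertible module on `P` whose pull-back to `X` is zero does not generate at the
points of `X`. -/
theorem notMem_genLocus_of_pullTop_eq_zero {X P : Scheme.{u}} (i : X ⟶ P) {N : P.Modules}
    (hN : PicF.IsInvertible N) (s : Γ(N, ⊤)) (hs : pullTop i s = 0) (w : X) :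
    i w ∉ CohB1.genLocus N (homOf s) := by
  intro hw
  have h1 : w ∈ i ⁻¹ᵁ (CohB1.genLocus N (homOf s)) := hw
  rw [← K390.PnSec.genLocus_pullTop i hN s, hs] at h1
  have h2 : homOf (0 : Γ((Scheme.Modules.pullback i).obj N, ⊤)) = 0 := by
    apply hom_ext_sec
    rw [sec_homOf, res_refl]
    rfl
  rw [h2, Groth.Agent.Ega2.FiniteSet.genLocus_zero] at h1
  exact h1.elim

theorem range_subset {T X X' P : Scheme.{u}} (i : X ⟶ P) (i' : X' ⟶ P) (c : Pic P)
    (hc : ∀ (N : P.Modules) (hN : PicF.IsInvertible N), mk N hN = c →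
      ∀ z, z ∉ Set.range i → ∃ s : Γ(N, ⊤), pullTop i s = 0 ∧ z ∈ CohB1.genLocus N (homOf s))
    {J : Type*} (x : J → (T ⟶ X)) (x' : J → (T ⟶ X'))
    (hx : ∀ a, x a ≫ i = x' a ≫ i')
    (hinj' : ∀ (F : X'.Modules) (hF : PicF.IsInvertible F), mk F hF = pull i' c →
      ∀ s : Γ(F, ⊤), (∀ a, pullTop (x' a) s = 0) → s = 0) :
    Set.range i' ⊆ Set.range i := by
  rintro z ⟨w, rfl⟩
  by_contra hz
  obtain ⟨N, hN, rfl⟩ := exists_mk c
  obtain ⟨s, hs, hzs⟩ := hc N hN rfl _ hz
  refine notMem_genLocus_of_pullTop_eq_zero i' hN s ?_ w hzs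
  refine hinj' _ _ (pull_mk i' hN).symm _ fun a => ?_
  rw [← pullTop_comp_eq_zero]
  have h1 : pullTop (x a ≫ i) s = 0 := by
    rw [pullTop_comp_eq_zero, hs]
    exact map_zero (K390.PnSec.pullTopHom (x a) _)
  rw [hx a] at h1
  exact h1

/-- **[FIB]** -/
theorem fib {Ω : Type u} [Field Ω] [IsAlgClosed Ω] {X X' : Scheme.{u}}
    (q : X ⟶ Spec (.of Ω)) (q' : X' ⟶ Spec (.of Ω)) [IsReduced X] [IsReduced X'] {m D : ℕ}
    (i : X ⟶ CohB1.ProjSpaceOver m (Spec (.of Ω))) (i' : X' ⟶ CohB1.ProjSpaceOver m (Spec (.of Ω)))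
    [IsClosedImmersion i] [IsClosedImmersion i']
    (_hq : i ≫ CohB1.ProjSpaceOver.toBase m (Spec (.of Ω)) = q)
    (_hq' : i' ≫ CohB1.ProjSpaceOver.toBase m (Spec (.of Ω)) = q')
    (hc : CutOut D i) (hc' : CutOut D i') {J : Type*}
    (x : J → (Spec (.of Ω) ⟶ X)) (x' : J → (Spec (.of Ω) ⟶ X'))
    (hx : ∀ a, x a ≫ i = x' a ≫ i')
    (hinj : ∀ (F : X.Modules) (hF : PicF.IsInvertible F), mk F hF = pull i (o1T m _) ^ D →
      ∀ s : Γ(F, ⊤), (∀ a, pullTop (x a) s = 0) → s = 0)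
    (hinj' : ∀ (F : X'.Modules) (hF : PicF.IsInvertible F), mk F hF = pull i' (o1T m _) ^ D →
      ∀ s : Γ(F, ⊤), (∀ a, pullTop (x' a) s = 0) → s = 0) :
    ∃ θ : X ≅ X', θ.hom ≫ i' = i := by
  refine Groth.Agent.Ega1.ReducedSub.exists_iso_of_range_eq i i' (subset_antisymm ?_ ?_)
  · refine range_subset i' i (o1T m _ ^ D) hc' x' x (fun a => (hx a).symm) ?_
    intro F hF hFc
    exact hinj F hF (by rw [hFc, map_pow])
  · refine range_subset i i' (o1T m _ ^ D) hc x x' hx ?_
    intro F hF hFc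
    exact hinj' F hF (by rw [hFc, map_pow])

end K185.Fib
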